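import Groth.Agent.S11919
import Groth.Agent.LC16.ExtStalk
import Groth.Agent.Var76.SuppVanish
import Groth.Agent.HomAlg41.AbutZero
import Groth.Agent.CAlg1.Serre
import Groth.Agent.QC70.ExtCoh
import Groth.Agent.Coh69.Grothendieck
import Groth.Agent.Mod48.Devissage
import Groth.Prelude.Def_Models
import Groth.Prelude.Def_DCoh2

/-!
Vanishing of `Ext` between coherent modules on a regular scheme above its dimension.
-/

set_option autoImplicit false
set_option maxSynthPendingDepth 3
set_option linter.style.haveILetI false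
set_option backward.isDefEq.respectTransparency.types false

noncomputable section

universe u

open CategoryTheory CategoryTheory.Limits CategoryTheory.Pretriangulated AlgebraicGeometry TopologicalSpace
open scoped ZeroObject

attribute [local instance] HasDerivedCategory.standard

namespace Groth.Agent.RegExt72

section Order

variable {α : Type*} [Preorder α] (Z : Set α) {d q : ℕ}

/-- A set all of whose points have coheight at least `q` loses `q` dimensions. -/
lemma krullDim_le_sub (hd : Order.krullDim α ≤ d) (hZ : ∀ x ∈ Z, (q : ℕ∞) ≤ Order.coheight x) :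
    Order.krullDim Z ≤ ((d - q : ℕ) : WithBot ℕ∞) := by
  refine iSup_le fun p => ?_
  obtain ⟨r, hr0, hr⟩ := Order.exists_series_of_le_coheight p.last.1 (hZ _ p.last.2)
  let s := (p.map (fun x : Z => x.1) fun _ _ h => h).smash r hr0.symm
  have h : (s.length : WithBot ℕ∞) ≤ d := (Order.LTSeries.length_le_krullDim s).trans hd
  have h' : p.length + q ≤ d := by
    have : s.length ≤ d := by exact_mod_cast h
    simpa [s, hr] using this
  exact_mod_cast (by omega : p.length ≤ d - q)

end Order

variable {X : Scheme.{u}}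

/-- The dimension of a scheme in terms of its points. -/
lemma krullDim_points (X : Scheme.{u}) : Order.krullDim X = topologicalKrullDim X :=
  (Order.krullDim_eq_of_orderIso (irreducibleSetEquivPoints (α := X))).symm

/-- The dimension of a closed subset in terms of its points. -/
lemma topologicalKrullDim_closed_le {Z : Set X} (hZ : IsClosed Z) :
    topologicalKrullDim Z ≤ Order.krullDim Z := by
  refine Order.krullDim_le_of_strictMono
    (fun W => (⟨irreducibleSetEquivPoints ⟨closure (Subtype.val '' (W : Set Z)),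
      (W.isIrreducible.image _ continuous_subtype_val.continuousOn).closure, isClosed_closure⟩, ?_⟩ : Z)) ?_
  · have hW := (W.isIrreducible.image _ continuous_subtype_val.continuousOn).closure
    exact closure_minimal (Subtype.coe_image_subset Z (W : Set Z)) hZ
      ((hW.isGenericPoint_genericPoint isClosed_closure).mem)
  · intro W W' h
    refine (irreducibleSetEquivPoints (α := X)).strictMono ?_
    have hcl : ∀ V : IrreducibleCloseds Z, closure (Subtype.val '' (V : Set Z)) = Subtype.val '' (V : Set Z) :=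
      fun V => (hZ.isClosedEmbedding_subtypeVal.isClosedMap _ V.isClosed).closure_eq
    refine lt_of_le_not_ge (closure_mono (Set.image_mono h.le)) fun h' => h.not_ge ?_
    have h'' : closure (Subtype.val '' (W' : Set Z)) ⊆ closure (Subtype.val '' (W : Set Z)) := h'
    rw [hcl, hcl] at h''
    exact (Set.image_subset_image_iff Subtype.val_injective).1 h''

variable [IsNoetherian X] (hreg : Models.IsRegularScheme X) {d : ℕ} (hd : topologicalKrullDim X ≤ d)

include hreg hd in
/-- Local `Ext` vanishes above the coheight. -/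
lemma le_coheight_of_mem_support {F G : X.Modules} [ModSite.HasSheafHom (O := X.sheaf) F]
    [HasInjectiveResolutions (ModSite.Mod X.sheaf)] (hF : Coh.IsCoh F) (q : ℕ) (x : X)
    (hx : x ∈ CohB1.support ((ModSite.extSh (O := X.sheaf) F q).obj G)) : (q : ℕ∞) ≤ Order.coheight x := by
  by_contra hlt
  rw [not_le] at hlt
  obtain ⟨e, he⟩ := WithTop.ne_top_iff_exists.1 hlt.ne_top
  have heq : e < q := by
    rw [← he] at hlt
    exact Nat.cast_lt.1 (show ((e : ℕ) : ℕ∞) < q from hlt)
  haveI := hreg x
  have hdim : ringKrullDim (X.presheaf.stalk x) = (e : ℕ) := by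
    rw [ringKrullDim_stalk_eq_coheight, ← he]; rfl
  haveI := CAlg1.hasPD_of_regular (X.presheaf.stalk x) hdim ((DCK91.SP x).obj F)
  haveI : Subsingleton (Abelian.Ext ((DCK91.SP x).obj F) ((DCK91.SP x).obj G) q) :=
    HasProjectiveDimensionLT.subsingleton ((DCK91.SP x).obj F) (e + 1) q (by omega) _
  obtain ⟨l⟩ := LC16.ExtStalk.nonempty_stalk_extSh x hF G q
  exact hx l.toEquiv.subsingleton

include hreg hd in
/-- The terms of the local-to-global spectral sequence above the dimension vanish. -/
lemma subsingleton_HH_extSh {F G : X.Modules} [ModSite.HasSheafHom (O := X.sheaf) F]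
    [HasInjectiveResolutions (ModSite.Mod X.sheaf)] (hF : Coh.IsCoh F) (hG : Coh.IsCoh G)
    (p q : ℕ) (hpq : d < p + q) : Subsingleton (Coh.HH X ((ModSite.extSh (O := X.sheaf) F q).obj G) p) := by
  let M : X.Modules := (ModSite.extSh (O := X.sheaf) F q).obj G
  have hM : Coh.IsCoh M := QC70.isCoh_extSh F G hF hG q
  haveI := hM.2
  have hc := QC70.isClosed_support M
  have hco : ∀ x ∈ CohB1.support M, (q : ℕ∞) ≤ Order.coheight x :=
    fun x hx => le_coheight_of_mem_support hreg hd hF q x hx
  have hdX : Order.krullDim X ≤ d := (krullDim_points X).trans_le hd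
  by_cases hq : q ≤ d
  · exact Var76.subsingleton_HH_of_support M hc (fun x hx => QC70.notMem_support_iff.1 hx)
      ((topologicalKrullDim_closed_le hc).trans (krullDim_le_sub _ hdX hco)) p (by omega)
  · have hz : IsZero M := QC70.isZero_of_support_eq_empty (Set.eq_empty_of_forall_notMem fun x hx => by
      have h1 : ((Order.coheight x : ℕ∞) : WithBot ℕ∞) ≤ d := (Order.coheight_le_krullDim x).trans hdX
      have h2 : Order.coheight x ≤ d := by exact_mod_cast h1
      have h3 : (q : ℕ∞) ≤ d := (hco x hx).trans h2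
      exact hq (by exact_mod_cast h3))
    have hz' : IsZero (Coh.toAb M) :=
      haveI : (SheafOfModules.toSheaf X.ringCatSheaf).PreservesZeroMorphisms := inferInstance
      (SheafOfModules.toSheaf X.ringCatSheaf).map_isZero hz
    refine subsingleton_of_forall_eq 0 fun (y : Abelian.Ext _ (Coh.toAb M) p) => ?_
    rw [← y.comp_mk₀_id, hz'.eq_of_src (𝟙 (Coh.toAb M)) 0, Abelian.Ext.mk₀_zero, Abelian.Ext.comp_zero]

include hreg hd in
/-- `Ext` between coherent modules vanishes above the dimension. -/
theorem subsingleton_ext [HasExt.{u} X.Modules] {F G : X.Modules} (hF : Coh.IsCoh F) (hG : Coh.IsCoh G)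
    (n : ℕ) (hn : d < n) : Subsingleton (Abelian.Ext F G n) := by
  haveI : ModSite.HasSheafHom (O := X.sheaf) F := QC70.hasSheafHom_modSite F
  haveI : HasInjectiveResolutions (ModSite.Mod X.sheaf) := Coh69.modules_hasInjectiveResolutions X
  obtain ⟨E, a, hfin, -, he⟩ := S11919.result X F G
  have hz : ∀ i : ℤ, IsZero ((E.page 2 le_rfl).X (i, (n : ℤ) - i)) := fun i => by
    obtain ⟨e⟩ := he i ((n : ℤ) - i)
    refine IsZero.of_iso ?_ e
    split_ifs with h
    · haveI := subsingleton_HH_extSh hreg hd hF hG i.toNat ((n : ℤ) - i).toNat (by omega)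
      exact AddCommGrpCat.isZero_of_subsingleton _
    · exact isZero_zero _
  have htop := HomAlg41.fil_eq_top a n (0 + 1) (hfin n) fun i _ => hz i
  have hbot := HomAlg41.fil_eq_bot a n 0 (hfin n) fun i _ => hz i
  haveI : IsIso (a.fil n (0 + 1)).arrow := (Subobject.isIso_arrow_iff_eq_top _).2 htop
  have h0 : (a.fil n (0 + 1)).arrow = 0 := by rw [hbot]; exact Subobject.bot_arrow
  have hH : IsZero (if (0 : ℤ) ≤ (n : ℤ) then AddCommGrpCat.of (Abelian.Ext F G (n : ℤ).toNat) else 0) := by
    have h1 : inv (a.fil n (0 + 1)).arrow ≫ (a.fil n (0 + 1)).arrow = 0 :=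
      (congrArg (_ ≫ ·) h0).trans comp_zero
    exact (IsZero.iff_id_eq_zero _).2 ((IsIso.inv_hom_id _).symm.trans h1)
  rw [if_pos (by omega)] at hH
  exact AddCommGrpCat.subsingleton_of_isZero hH

include hreg hd in
/-- Morphisms into high shifts vanish. -/
theorem hom_shift_eq_zero {F G : X.Modules} (hF : Coh.IsCoh F) (hG : Coh.IsCoh G) (n : ℤ) (hn : (d : ℤ) < n)
    (φ : DCoh.inD X F ⟶ (DCoh.inD X G)⟦n⟧) : φ = 0 := by
  obtain ⟨n, rfl⟩ : ∃ m : ℕ, n = (m : ℤ) := ⟨n.toNat, by omega⟩
  haveI := subsingleton_ext hreg hd hF hG n (by omega)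
  exact (Abelian.Ext.homEquiv (X := F) (Y := G) (n := n)).symm.injective (Subsingleton.elim _ _)

open DerivedCategory in
include hreg hd in
/-- Morphisms between coherent modules placed in far apart degrees vanish. -/
theorem hom_single_eq_zero {F G : X.Modules} (hF : Coh.IsCoh F) (hG : Coh.IsCoh G) (q r : ℤ)
    (hqr : r + d < q) (φ : (singleFunctor X.Modules q).obj F ⟶ (singleFunctor X.Modules r).obj G) : φ = 0 := by
  let e₁ : ((singleFunctor X.Modules q).obj F)⟦q⟧ ≅ DCoh.inD X F :=
    ((singleFunctors X.Modules).shiftIso q 0 q (by omega)).app F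
  let e₂ : ((singleFunctor X.Modules r).obj G)⟦q⟧ ≅ (DCoh.inD X G)⟦q - r⟧ :=
    ((singleFunctors X.Modules).shiftIso q (r - q) r (by omega)).app G ≪≫
      (((singleFunctors X.Modules).shiftIso (q - r) (r - q) 0 (by omega)).app G).symm
  apply (shiftFunctor (DCoh.D X) q).map_injective
  rw [Functor.map_zero, ← cancel_epi e₁.inv, ← cancel_mono e₂.hom, comp_zero, zero_comp]
  exact hom_shift_eq_zero hreg hd hF hG (q - r) (by omega) _

open DerivedCategory in
include hreg hd in
/-- Morphisms between bounded coherent objects in far apart degrees vanish. -/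
theorem hom_eq_zero (K L : DCoh.D X) (hK : DCoh.IsCohD K) (hL : DCoh.IsCohD L) (a cK bL : ℤ)
    (h₁ : K.IsGE (a + d)) (h₂ : K.IsLE cK) (h₃ : L.IsGE bL) (h₄ : L.IsLE (a - 1)) (φ : K ⟶ L) : φ = 0 := by
  have key : ∀ q, a + d ≤ q → ∀ (F : X.Modules), Coh.IsCoh F →
      ∀ ψ : (singleFunctor X.Modules q).obj F ⟶ L, ψ = 0 := by
    intro q hq F hF
    let T : ObjectProperty (DCoh.D X) := fun W => ∀ ψ : (singleFunctor X.Modules q).obj F ⟶ W, ψ = 0
    have : T.IsClosedUnderIsomorphisms := ⟨fun e h ψ => by
      rw [← cancel_mono e.inv, zero_comp]; exact h _⟩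
    refine Mod48.bounded_induction T (fun W hW ψ => hW.eq_of_tgt _ _) (fun S hS hS₁ hS₃ ψ => ?_)
      (a - bL).toNat bL L h₃ (TStructure.t.isLE_of_le _ (a - 1) _ (by omega)) fun r => ?_
    · obtain ⟨g, hg⟩ := Triangle.coyoneda_exact₂ S hS ψ (hS₃ _)
      rw [hg, hS₁ g, zero_comp]
    · by_cases hr : r ≤ a - 1
      · exact hom_single_eq_zero hreg hd hF (hL r) q r (by omega)
      · exact fun ψ => ((singleFunctor X.Modules r).map_isZero
          (DerivedCategory.isZero_of_isLE L (a - 1) r (by omega))).eq_of_tgt _ _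
  let S : ObjectProperty (DCoh.D X) := fun W => ∀ ψ : W ⟶ L, ψ = 0
  have : S.IsClosedUnderIsomorphisms := ⟨fun e h ψ => by
    rw [← cancel_epi e.hom, comp_zero]; exact h _⟩
  refine Mod48.bounded_induction S (fun W hW ψ => hW.eq_of_src _ _) (fun T hT hT₁ hT₃ ψ => ?_)
    (cK + 1 - (a + d)).toNat (a + d) K h₁ (TStructure.t.isLE_of_le _ cK _ (by omega)) (fun q => ?_) φ
  · obtain ⟨g, hg⟩ := Triangle.yoneda_exact₂ T hT ψ (hT₁ _)
    rw [hg, hT₃ g, comp_zero]
  · by_cases hq : a + d ≤ q
    · exact key q hq _ (hK q)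
    · exact fun ψ => ((singleFunctor X.Modules q).map_isZero
        (DerivedCategory.isZero_of_isGE K (a + d) q (by omega))).eq_of_src _ _

end Groth.Agent.RegExt72
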